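import Groth.Agent.WittFil.K985.Abs
import Mathlib.FieldTheory.IsAlgClosed.AlgebraicClosure
import Mathlib.RingTheory.Polynomial.RationalRoot
import Mathlib.RingTheory.Localization.Away.Basic
import Mathlib.RingTheory.Localization.FractionRing
import Mathlib.RingTheory.UniqueFactorizationDomain.Basic
import Mathlib.RingTheory.Coprime.Lemmas

/-!
# Filtered pieces of Witt vectors over localisations of normal domains and factorial domains
-/

set_option autoImplicit false
universe u

namespace K985.WittFil

section Normal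

variable {A B : Type u} [CommRing A] [IsDomain A] [CommRing B] [Algebra A B]
  (M : Submonoid A) (hM : M ≤ nonZeroDivisors A) [IsLocalization M B]

include hM in
theorem exists_toFrac : ∃ f : B →+* FractionRing A, Function.Injective f ∧
    ∀ a : A, f (algebraMap A B a) = algebraMap A (FractionRing A) a := by
  have hg : ∀ y : M, IsUnit (algebraMap A (FractionRing A) y) := fun y =>
    IsLocalization.map_units (FractionRing A) (⟨y, hM y.2⟩ : nonZeroDivisors A)
  refine ⟨IsLocalization.lift (M := M) hg, ?_, fun a => IsLocalization.lift_eq hg a⟩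
  rw [injective_iff_map_eq_zero]
  intro z hz
  obtain ⟨⟨a, s⟩, hs⟩ := IsLocalization.surj M z
  have h1 : algebraMap A (FractionRing A) a = 0 := by
    rw [← IsLocalization.lift_eq (S := B) hg a]
    have := congrArg (IsLocalization.lift (M := M) (S := B) hg) hs
    rw [map_mul, hz, zero_mul] at this
    exact this.symm
  have ha : a = 0 := (IsFractionRing.injective A (FractionRing A)) (by rw [h1, map_zero])
  simp only at hs
  rw [ha, map_zero] at hs
  exact (IsLocalization.map_units B s).mul_left_eq_zero.1 hs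

include hM in
theorem exists_field [IsIntegrallyClosed A] : ∃ (L : Type u) (_ : Field L) (_ : IsAlgClosed L) (ι : B →+* L)
    (O : Subring L), Function.Injective ι ∧ (∀ (z : L) (q : ℕ), 0 < q → z ^ q ∈ O → z ∈ O) ∧
      (∀ z : B, z ∈ (algebraMap A B).range ↔ ι z ∈ O) := by
  obtain ⟨f, hf, hfa⟩ := exists_toFrac (B := B) M hM
  let K := FractionRing A
  let L := AlgebraicClosure K
  refine ⟨L, inferInstance, inferInstance, (algebraMap K L).comp f,
    (integralClosure A L).toSubring, (algebraMap K L).injective.comp hf, ?_, ?_⟩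
  · intro z q hq hz
    have hz' : IsIntegral A (z ^ q) := hz
    exact IsIntegral.of_pow hq hz'
  · intro z
    constructor
    · rintro ⟨a, rfl⟩
      show IsIntegral A (algebraMap K L (f (algebraMap A B a)))
      rw [hfa, ← IsScalarTower.algebraMap_apply]
      exact isIntegral_algebraMap
    · intro hz
      have hz' : IsIntegral A (algebraMap K L (f z)) := hz
      rw [isIntegral_algebraMap_iff (algebraMap K L).injective] at hz'
      obtain ⟨a, ha⟩ := IsIntegrallyClosed.isIntegral_iff.1 hz'
      exact ⟨a, hf (by rw [hfa, ha])⟩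

include hM in
/-- root-closedness of `A` in `B`. -/
theorem mem_range_of_pow [IsIntegrallyClosed A] (z : B) (q : ℕ) (hq : 0 < q)
    (hz : z ^ q ∈ (algebraMap A B).range) : z ∈ (algebraMap A B).range := by
  obtain ⟨L, _, _, ι, O, hι, hO, hA⟩ := exists_field (B := B) M hM
  rw [hA] at hz ⊢
  rw [map_pow] at hz
  exact hO _ q hq hz

end Normal

section Ufd

variable {A B : Type u} [CommRing A] [IsDomain A]
    [UniqueFactorizationMonoid A] [CommRing B] [Algebra A B] {r : ℕ} (x : Fin r → A)
    (hx : ∀ i, Prime (x i)) (hxa : ∀ i j, Associated (x i) (x j) → i = j)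
    [IsLocalization.Away (∏ i, x i) B] (u : Fin r → Bˣ)
    (hu : ∀ i, (u i : B) = algebraMap A B (x i))

omit [UniqueFactorizationMonoid A] in
include hx in
theorem powers_le : Submonoid.powers (∏ i, x i) ≤ nonZeroDivisors A :=
  powers_le_nonZeroDivisors_of_noZeroDivisors (Finset.prod_ne_zero_iff.2 fun i _ => (hx i).ne_zero)

include hx in
theorem ufd_mem_range_of_pow (z : B) (q : ℕ) (hq : 0 < q)
    (hz : z ^ q ∈ (algebraMap A B).range) : z ∈ (algebraMap A B).range :=
  mem_range_of_pow (Submonoid.powers (∏ i, x i)) (powers_le x hx) z q hq hz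

omit [IsDomain A] [UniqueFactorizationMonoid A] [IsLocalization.Away (∏ i, x i) B] in
theorem zmon_add (n n' : Fin r → ℤ) :
    WittFil.zmon u (n + n') = WittFil.zmon u n * WittFil.zmon u n' := by
  rw [WittFil.zmon, WittFil.zmon, WittFil.zmon, ← Units.val_mul, ← Finset.prod_mul_distrib]
  congr 1
  exact Finset.prod_congr rfl fun i _ => zpow_add _ _ _

theorem zmon_pow {B : Type*} [CommRing B] {r : ℕ} (u : Fin r → Bˣ) (n : Fin r → ℤ) (q : ℕ) :
    WittFil.zmon u n ^ q = WittFil.zmon u (fun i => n i * q) := by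
  rw [WittFil.zmon, WittFil.zmon, ← Units.val_pow_eq_pow_val, ← Finset.prod_pow]
  congr 1
  exact Finset.prod_congr rfl fun i _ => by rw [zpow_mul, zpow_natCast]

theorem zmon_add' {B : Type*} [CommRing B] {r : ℕ} (u : Fin r → Bˣ) (n n' : Fin r → ℤ) :
    WittFil.zmon u (fun i => n i + n' i) = WittFil.zmon u n * WittFil.zmon u n' := by
  rw [WittFil.zmon, WittFil.zmon, WittFil.zmon, ← Units.val_mul, ← Finset.prod_mul_distrib]
  congr 1
  exact Finset.prod_congr rfl fun i _ => zpow_add _ _ _

theorem zmon_zero {B : Type*} [CommRing B] {r : ℕ} (u : Fin r → Bˣ) :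
    WittFil.zmon u (fun _ => 0) = 1 := by
  simp [WittFil.zmon]

include hu in
omit [IsDomain A] [UniqueFactorizationMonoid A] [IsLocalization.Away (∏ i, x i) B] in
theorem zmon_nat (n : Fin r → ℕ) :
    WittFil.zmon u (fun i => (n i : ℤ)) = algebraMap A B (∏ i, x i ^ n i) := by
  rw [WittFil.zmon, map_prod, Units.coe_prod]
  exact Finset.prod_congr rfl fun i _ => by rw [zpow_natCast, Units.val_pow_eq_pow_val, hu, map_pow]

include hu in
omit [IsDomain A] [UniqueFactorizationMonoid A] [IsLocalization.Away (∏ i, x i) B] in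
theorem zmon_mem (n : Fin r → ℤ) (hn : ∀ i, 0 ≤ n i) :
    WittFil.zmon u n ∈ (algebraMap A B).range := by
  have : n = fun i => ((n i).toNat : ℤ) := funext fun i => (Int.toNat_of_nonneg (hn i)).symm
  rw [this, zmon_nat x u hu]
  exact ⟨_, rfl⟩

include hx hxa hu in
/-- If `z ^ q * ∏ u_i ^ n_i ∈ A` with all `n_i < 0` then `z ∈ (∏ x_i) A`. -/
theorem exists_of_neg (z : B) (q : ℕ) (hq : 0 < q) (n : Fin r → ℤ) (hn : ∀ i, n i < 0)
    (hz : z ^ q * WittFil.zmon u n ∈ (algebraMap A B).range) :
    ∃ b : A, z = algebraMap A B ((∏ i, x i) * b) := by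
  obtain ⟨a, ha⟩ := hz
  -- z^q = a * ∏ x_i^{-n_i}
  have h1 : z ^ q = algebraMap A B (a * ∏ i, x i ^ (-n i).toNat) := by
    have h2 : WittFil.zmon u (fun i => ((-n i).toNat : ℤ)) = WittFil.zmon u (fun i => - n i) := by
      congr 1
      funext i
      rw [Int.toNat_of_nonneg (by have := hn i; omega)]
    rw [map_mul, ← zmon_nat x u hu, h2, ha, mul_assoc, ← zmon_add']
    have : (fun i => n i + -n i) = fun _ => 0 := funext fun i => by omega
    rw [this, zmon_zero, mul_one]
  obtain ⟨b, hb⟩ := ufd_mem_range_of_pow x hx z q hq (by rw [h1]; exact ⟨_, rfl⟩)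
  have hinj : Function.Injective (algebraMap A B) :=
    IsLocalization.injective B (powers_le x hx)
  have h3 : b ^ q = a * ∏ i, x i ^ (-n i).toNat := by
    apply hinj
    rw [map_pow, hb, h1]
  have h4 : ∀ i, x i ∣ b := by
    intro i
    apply (hx i).dvd_of_dvd_pow (n := q)
    rw [h3]
    apply Dvd.dvd.mul_left
    apply Dvd.dvd.trans _ (Finset.dvd_prod_of_mem _ (Finset.mem_univ i))
    exact dvd_pow_self _ (by have := hn i; omega)
  have h5 : (∏ i, x i) ∣ b := by
    apply Fintype.prod_dvd_of_isRelPrime _ h4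
    intro i j hij
    show IsRelPrime (x i) (x j)
    rw [(hx i).irreducible.isRelPrime_iff_not_dvd]
    intro hd
    exact hij (hxa i j ((hx i).irreducible.associated_of_dvd (hx j).irreducible hd))
  obtain ⟨c, rfl⟩ := h5
  exact ⟨c, hb.symm⟩

include hx hxa hu in
/-- If `z ^ q * ∏ u_i ^ n_i ∈ A` with all `n_i < q` then `z ∈ A`. -/
theorem mem_of_lt (z : B) (q : ℕ) (hq : 0 < q) (n : Fin r → ℤ) (hn : ∀ i, n i < q)
    (hz : z ^ q * WittFil.zmon u n ∈ (algebraMap A B).range) : z ∈ (algebraMap A B).range := by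
  obtain ⟨b, hb⟩ := exists_of_neg x hx hxa u hu (z * WittFil.zmon u (fun _ => 1)) q hq
    (fun i => n i - q) (fun i => by have := hn i; omega) (by
      rw [mul_pow, zmon_pow, mul_assoc, ← zmon_add']
      have : (fun i => 1 * (q : ℤ) + (n i - q)) = n := funext fun i => by ring
      rw [this]
      exact hz)
  refine ⟨b, ?_⟩
  have h1 : WittFil.zmon u (fun _ => 1) = algebraMap A B (∏ i, x i) := by
    have := zmon_nat x u hu (fun _ => 1)
    simpa using this
  rw [map_mul, ← h1, mul_comm] at hb
  have h2 : IsUnit (WittFil.zmon u (fun _ => 1)) := Units.isUnit _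
  exact (h2.mul_left_cancel hb).symm

end Ufd

end K985.WittFil
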