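import Mathlib.RingTheory.WittVector.Teichmuller
import Mathlib.RingTheory.WittVector.Truncated
import Mathlib.RingTheory.WittVector.Verschiebung
import Mathlib.RingTheory.WittVector.Identities
import Groth.Prelude.Def_W4c6katofiltaWFil

/-!
# Multiplication by a Teichmüller representative in coordinates
-/

set_option autoImplicit false

namespace K985.WittFil

open WittVector MvPolynomial

variable (p : ℕ) [hp : Fact p.Prime] {R : Type*} [CommRing R]

/-- `x ↦ (v^{p^n} x_n)_n`. -/
def tm (v : R) (x : WittVector p R) : WittVector p R := ⟨fun n => v ^ p ^ n * x.coeff n⟩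

theorem tm_coeff (v : R) (x : WittVector p R) (n : ℕ) :
    (tm p v x).coeff n = v ^ p ^ n * x.coeff n := rfl

theorem ghost_tm (v : R) (x : WittVector p R) (n : ℕ) :
    ghostComponent n (tm p v x) = v ^ p ^ n * ghostComponent n x := by
  rw [ghostComponent_apply, ghostComponent_apply, aeval_wittPolynomial, aeval_wittPolynomial,
    Finset.mul_sum]
  refine Finset.sum_congr rfl fun i hi => ?_
  rw [tm_coeff, mul_pow, ← pow_mul, ← pow_add,
    Nat.add_sub_cancel' (Nat.lt_succ_iff.1 (Finset.mem_range.1 hi))]
  ring

theorem map_tm {S : Type*} [CommRing S] (f : R →+* S) (v : R) (x : WittVector p R) :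
    WittVector.map f (tm p v x) = tm p (f v) (WittVector.map f x) := by
  ext n
  rw [WittVector.map_coeff, tm_coeff, tm_coeff, map_mul, map_pow, WittVector.map_coeff]

private theorem aux₁ {R : Type*} (v : MvPolynomial R ℚ) (x : WittVector p (MvPolynomial R ℚ)) :
    teichmuller p v * x = tm p v x := by
  apply (ghostMap.bijective_of_invertible p (MvPolynomial R ℚ)).1
  rw [map_mul]
  ext1 n
  rw [Pi.mul_apply, ghostMap_apply, ghostMap_apply, ghostMap_apply, ghostComponent_teichmuller,
    ghost_tm]

private theorem aux₂ {R : Type*} (v : MvPolynomial R ℤ) (x : WittVector p (MvPolynomial R ℤ)) :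
    teichmuller p v * x = tm p v x := by
  refine map_injective (MvPolynomial.map (Int.castRingHom ℚ))
    (MvPolynomial.map_injective _ Int.cast_injective) ?_
  rw [map_mul, map_teichmuller, aux₁, map_tm]

theorem teichmuller_mul (v : R) (x : WittVector p R) : teichmuller p v * x = tm p v x := by
  obtain ⟨v, rfl⟩ := counit_surjective R v
  obtain ⟨x, rfl⟩ := WittVector.map_surjective _ (counit_surjective R) x
  rw [← map_teichmuller, ← map_mul, aux₂, map_tm]

theorem teichmuller_mul_coeff (v : R) (x : WittVector p R) (n : ℕ) :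
    (teichmuller p v * x).coeff n = v ^ p ^ n * x.coeff n := by
  rw [teichmuller_mul, tm_coeff]

theorem trunc_teichmuller_mul_coeff (m : ℕ) (v : R) (x : TruncatedWittVector p m R) (j : Fin m) :
    (truncate m (teichmuller p v) * x).coeff j = v ^ p ^ (j : ℕ) * x.coeff j := by
  obtain ⟨X, rfl⟩ := WittVector.truncate_surjective p m R x
  rw [← map_mul, coeff_truncate, coeff_truncate, teichmuller_mul_coeff]

theorem iter_versch_coeff_lt (s : ℕ) (x : WittVector p R) (j : ℕ) (hj : j < s) :
    (verschiebung^[s] x).coeff j = 0 := by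
  induction s generalizing j with
  | zero => omega
  | succ s ih =>
    rw [Function.iterate_succ_apply']
    rcases j with _ | j
    · exact verschiebung_coeff_zero _
    · rw [verschiebung_coeff_succ]
      exact ih j (by omega)

theorem iter_versch_coeff_ge (s : ℕ) (x : WittVector p R) (j : ℕ) (hj : s ≤ j) :
    (verschiebung^[s] x).coeff j = x.coeff (j - s) := by
  obtain ⟨i, rfl⟩ := Nat.exists_eq_add_of_le hj
  rw [add_comm, iterate_verschiebung_coeff, Nat.add_sub_cancel]

section VShift

variable {S B : Type*} [CommRing S] [CommRing B] [Algebra S B]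

theorem vShift_coeff_lt (m s : ℕ) (v : B) (c : WittVector p S) (j : Fin m) (hj : (j : ℕ) < s) :
    (WittFil.vShiftTeich p m s v c).coeff j = 0 := by
  rw [WittFil.vShiftTeich, coeff_truncate, iter_versch_coeff_lt p s _ _ hj]

theorem vShift_coeff_ge (m s : ℕ) (v : B) (c : WittVector p S) (j : Fin m) (hj : s ≤ (j : ℕ)) :
    (WittFil.vShiftTeich p m s v c).coeff j =
      algebraMap S B (c.coeff (j - s)) * v ^ p ^ ((j : ℕ) - s) := by
  rw [WittFil.vShiftTeich, coeff_truncate, iter_versch_coeff_ge p s _ _ hj, mul_comm,
    teichmuller_mul_coeff, WittVector.map_coeff, mul_comm]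

end VShift

end K985.WittFil
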