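import Groth.Agent.WittFil.K985.Ufd
import Mathlib.RingTheory.PowerSeries.Inverse
import Mathlib.RingTheory.PowerSeries.NoZeroDivisors
import Mathlib.RingTheory.Ideal.GoingUp

/-!
# The graded pieces of the filtration of Witt vectors of `S⸨π⸩`
-/

set_option autoImplicit false
universe u

namespace K985.WittFil

open PowerSeries

variable {S B : Type u} [CommRing S] [IsDomain S] [CommRing B] [Algebra (PowerSeries S) B]
    [IsLocalization.Away (PowerSeries.X : PowerSeries S) B]

/-- A field containing `B = S⸨π⸩` with a root-closed subring `O` cutting out `S⟦π⟧` and a prime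
ideal `P` of `O` cutting out `π S⟦π⟧`. -/
theorem exists_power_field : ∃ (L : Type u) (_ : Field L) (_ : IsAlgClosed L) (ι : B →+* L)
    (O : Subring L) (P : Ideal O), P.IsPrime ∧ (∀ (z : L) (q : ℕ), 0 < q → z ^ q ∈ O → z ∈ O) ∧
      (∀ z : B, z ∈ (algebraMap (PowerSeries S) B).range ↔ ι z ∈ O) ∧
      (∀ a : PowerSeries S, X ∣ a ↔ ∃ z ∈ P, ι (algebraMap (PowerSeries S) B a) = (z : L)) := by
  let F := FractionRing S
  let AF := PowerSeries F
  let K := FractionRing AF
  let L := AlgebraicClosure K
  let g : PowerSeries S →+* AF := PowerSeries.map (algebraMap S F)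
  have hgX : g X = X := PowerSeries.map_X _
  have hgc : ∀ (a : PowerSeries S) n, coeff n (g a) = algebraMap S F (coeff n a) := fun a n =>
    PowerSeries.coeff_map _ _ _
  have hinjF : Function.Injective (algebraMap S F) := IsFractionRing.injective S F
  have hXne : algebraMap AF K X ≠ 0 := by
    intro h
    exact PowerSeries.X_ne_zero ((IsFractionRing.injective AF K) (h.trans (map_zero _).symm))
  let f : B →+* K := IsLocalization.Away.lift (S := B) (X : PowerSeries S)
    (g := (algebraMap AF K).comp g) (by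
      rw [RingHom.comp_apply, hgX]
      exact isUnit_iff_ne_zero.2 hXne)
  have hfa : ∀ a : PowerSeries S, f (algebraMap (PowerSeries S) B a) = algebraMap AF K (g a) :=
    fun a => IsLocalization.Away.lift_eq _ _ a
  let O : Subring L := (integralClosure AF L).toSubring
  let ι : B →+* L := (algebraMap K L).comp f
  have hιa : ∀ a : PowerSeries S, ι (algebraMap (PowerSeries S) B a) = algebraMap AF L (g a) := by
    intro a
    show algebraMap K L (f _) = _
    rw [hfa, ← IsScalarTower.algebraMap_apply]
  let OA : Type u := integralClosure AF L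
  have hkerle : RingHom.ker (algebraMap AF (integralClosure AF L)) ≤ Ideal.span {(X : AF)} := by
    intro a ha
    rw [RingHom.mem_ker] at ha
    have h1 : algebraMap AF L a = 0 := by
      have := congrArg (algebraMap (integralClosure AF L) L) ha
      rw [← IsScalarTower.algebraMap_apply, map_zero] at this
      exact this
    have hinj : Function.Injective (algebraMap AF L) := by
      rw [IsScalarTower.algebraMap_eq AF K L]
      exact (algebraMap K L).injective.comp (IsFractionRing.injective AF K)
    rw [hinj (h1.trans (map_zero _).symm)]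
    exact Ideal.zero_mem _
  have hXprime : (Ideal.span {(X : AF)}).IsPrime := PowerSeries.span_X_isPrime
  obtain ⟨Q, hQ, hQX⟩ := Ideal.exists_ideal_over_prime_of_isIntegral_of_isDomain
    (S := integralClosure AF L) (Ideal.span {(X : AF)}) hkerle
  refine ⟨L, inferInstance, inferInstance, ι, O, Q, hQ, ?_, ?_, ?_⟩
  · intro z q hq hz
    have hz' : IsIntegral AF (z ^ q) := hz
    exact IsIntegral.of_pow hq hz'
  · intro z
    constructor
    · rintro ⟨a, rfl⟩
      rw [hιa]
      exact (isIntegral_algebraMap : IsIntegral AF (algebraMap AF L (g a)))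
    · intro hz
      have hz' : IsIntegral AF (algebraMap K L (f z)) := hz
      rw [isIntegral_algebraMap_iff (algebraMap K L).injective] at hz'
      obtain ⟨b, hb⟩ := IsIntegrallyClosed.isIntegral_iff.1 hz'
      obtain ⟨n, a, ha⟩ := IsLocalization.Away.surj (X : PowerSeries S) z
      have h1 : b * X ^ n = g a := by
        apply IsFractionRing.injective AF K
        rw [map_mul, hb, ← hfa, ← ha, map_mul, map_pow, map_pow, hfa, hgX]
      have h2 : (X : PowerSeries S) ^ n ∣ a := by
        rw [PowerSeries.X_pow_dvd_iff]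
        intro l hl
        apply hinjF
        rw [← hgc, ← h1, map_zero, PowerSeries.coeff_mul_X_pow', if_neg (by omega)]
      obtain ⟨a', rfl⟩ := h2
      refine ⟨a', ?_⟩
      have hu : IsUnit (algebraMap (PowerSeries S) B X ^ n) :=
        (IsLocalization.Away.algebraMap_isUnit (X : PowerSeries S)).pow n
      rw [map_mul, map_pow, mul_comm] at ha
      exact (hu.mul_left_cancel ha).symm
  · intro a
    constructor
    · rintro ⟨b, rfl⟩
      refine ⟨algebraMap AF (integralClosure AF L) (X * g b), ?_, ?_⟩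
      · have : X * g b ∈ Ideal.span {(X : AF)} := Ideal.mem_span_singleton.2 ⟨_, rfl⟩
        rw [← hQX] at this
        exact this
      · rw [hιa, map_mul, hgX]
        rfl
    · rintro ⟨z, hz, hza⟩
      rw [hιa] at hza
      have h1 : z = algebraMap AF (integralClosure AF L) (g a) := Subtype.ext hza.symm
      have h2 : g a ∈ Ideal.span {(X : AF)} := by
        rw [← hQX, Ideal.mem_comap, ← h1]
        exact hz
      rw [Ideal.mem_span_singleton, PowerSeries.X_dvd_iff] at h2
      rw [PowerSeries.X_dvd_iff]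
      apply hinjF
      rw [map_zero, ← h2]
      have := hgc a 0
      rw [PowerSeries.coeff_zero_eq_constantCoeff_apply, PowerSeries.coeff_zero_eq_constantCoeff_apply] at this
      exact this.symm

/-- If `w ^ q * u ^ N ∈ A` and `q ∤ N` then `w ^ q * u ^ (N - 1) ∈ A`, for `B = A[1/x]`, `x` prime,
`A` root-closed in `B`. -/
theorem mem_of_not_dvd {A B : Type u} [CommRing A] [IsDomain A] [CommRing B] [Algebra A B] (x : A)
    (hx : Prime x) [IsLocalization.Away x B]
    (hroot : ∀ (z : B) (q : ℕ), 0 < q → z ^ q ∈ (algebraMap A B).range → z ∈ (algebraMap A B).range)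
    (v : Bˣ) (hv : (v : B) = algebraMap A B x) (w : B) (q : ℕ) (hq : 0 < q) (N : ℤ)
    (hN : ¬ ((q : ℤ) ∣ N)) (h : w ^ q * ((v ^ N : Bˣ) : B) ∈ (algebraMap A B).range) :
    w ^ q * ((v ^ (N - 1) : Bˣ) : B) ∈ (algebraMap A B).range := by
  have hqz : (0 : ℤ) < q := by exact_mod_cast hq
  set r : ℤ := N % (q : ℤ) with hr
  set k : ℤ := N / (q : ℤ) with hk
  have hnk : k * (q : ℤ) + r = N := Int.ediv_mul_add_emod N _
  have hr1 : 0 < r := by
    rcases (Int.emod_nonneg N hqz.ne').lt_or_eq with h | h
    · exact h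
    · exact absurd (Int.dvd_of_emod_eq_zero h.symm) hN
  have hr2 : r < q := Int.emod_lt_of_pos N hqz
  have hvn : ∀ n : ℕ, ((v ^ (n : ℤ) : Bˣ) : B) = algebraMap A B (x ^ n) := by
    intro n
    rw [zpow_natCast, Units.val_pow_eq_pow_val, hv, map_pow]
  have hinj : Function.Injective (algebraMap A B) :=
    IsLocalization.injective B (powers_le_nonZeroDivisors_of_noZeroDivisors hx.ne_zero)
  obtain ⟨a, ha⟩ := h
  obtain ⟨t, ht⟩ : ∃ t : ℕ, (t : ℤ) + 1 = q - r := ⟨((q : ℤ) - r - 1).toNat, by
    rw [Int.toNat_of_nonneg (by omega)]; ring⟩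
  -- z = w u^{k+1}
  have h1 : (w * ((v ^ (k + 1) : Bˣ) : B)) ^ q = algebraMap A B (a * x ^ (t + 1)) := by
    rw [map_mul, ← hvn, ha, mul_pow, ← Units.val_pow_eq_pow_val, mul_assoc, ← Units.val_mul,
      ← zpow_add, ← zpow_natCast, ← zpow_mul]
    congr 3
    push_cast
    rw [ht, ← hnk]
    ring
  obtain ⟨b, hb⟩ := hroot _ q hq ⟨_, h1.symm⟩
  have h2 : x ∣ b := by
    apply hx.dvd_of_dvd_pow (n := q)
    have : b ^ q = a * x ^ (t + 1) := by
      apply hinj
      rw [map_pow, hb, h1]
    rw [this, pow_succ, ← mul_assoc]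
    exact dvd_mul_left _ _
  obtain ⟨c, rfl⟩ := h2
  have h3 : w * ((v ^ k : Bˣ) : B) = algebraMap A B c := by
    rw [map_mul, ← hv, zpow_add, zpow_one, Units.val_mul, ← mul_assoc, mul_comm (v : B)] at hb
    exact (v.isUnit.mul_right_cancel hb).symm
  obtain ⟨t', ht'⟩ : ∃ t' : ℕ, (t' : ℤ) = r - 1 := ⟨(r - 1).toNat, Int.toNat_of_nonneg (by omega)⟩
  refine ⟨c ^ q * x ^ t', ?_⟩
  rw [map_mul, map_pow, ← h3, ← hvn, mul_pow, mul_assoc, ← Units.val_pow_eq_pow_val, ← Units.val_mul,
    ← zpow_natCast, ← zpow_mul, ← zpow_add]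
  congr 3
  rw [ht', ← hnk]
  ring

end K985.WittFil
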