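import Groth.Agent.WittFil.K985.Teich
import Mathlib.RingTheory.IntegralClosure.IsIntegralClosure.Basic
import Mathlib.RingTheory.IntegralClosure.IntegrallyClosed
import Mathlib.RingTheory.Ideal.Quotient.Operations

/-!
# Witt vectors with the first coordinates in a subring
-/

set_option autoImplicit false

namespace K985.WittFil

open WittVector

variable (p : ℕ) [hp : Fact p.Prime]

section Subring

variable {L : Type*} [CommRing L] (O : Subring L) (m : ℕ)

theorem exists_lift (Z : WittVector p L) (h : ∀ j < m, Z.coeff j ∈ O) :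
    ∃ Z' : WittVector p O, truncate m (WittVector.map O.subtype Z') = truncate m Z := by
  classical
  refine ⟨⟨fun j => if hj : j < m then ⟨Z.coeff j, h j hj⟩ else 0⟩, ?_⟩
  apply TruncatedWittVector.ext
  intro i
  rw [coeff_truncate, coeff_truncate, WittVector.map_coeff]
  show O.subtype (if hj : (i : ℕ) < m then ⟨Z.coeff i, h i hj⟩ else 0) = _
  rw [dif_pos i.2]
  rfl

theorem coeff_eq_of_trunc_eq {R : Type*} [CommRing R] {Z Z' : WittVector p R}
    (h : truncate m Z = truncate m Z') (j : ℕ) (hj : j < m) : Z.coeff j = Z'.coeff j := by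
  have := congrArg (TruncatedWittVector.coeff (⟨j, hj⟩ : Fin m)) h
  rwa [coeff_truncate, coeff_truncate] at this

theorem trunc_eq_of_coeff_eq {R : Type*} [CommRing R] {Z Z' : WittVector p R}
    (h : ∀ j < m, Z.coeff j = Z'.coeff j) : truncate m Z = truncate m Z' := by
  apply TruncatedWittVector.ext
  intro i
  rw [coeff_truncate, coeff_truncate, h i i.2]

theorem coeff_sub_mem {Z W : WittVector p L} (hZ : ∀ j < m, Z.coeff j ∈ O)
    (hW : ∀ j < m, W.coeff j ∈ O) : ∀ j < m, (Z - W).coeff j ∈ O := by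
  obtain ⟨Z', hZ'⟩ := exists_lift p O m Z hZ
  obtain ⟨W', hW'⟩ := exists_lift p O m W hW
  have h : truncate m (WittVector.map O.subtype (Z' - W')) = truncate m (Z - W) := by
    rw [map_sub, map_sub, map_sub, hZ', hW']
  intro j hj
  rw [← coeff_eq_of_trunc_eq p m h j hj, WittVector.map_coeff]
  exact ((Z' - W').coeff j).2

theorem coeff_mul_mem {Z W : WittVector p L} (hZ : ∀ j < m, Z.coeff j ∈ O)
    (hW : ∀ j < m, W.coeff j ∈ O) : ∀ j < m, (Z * W).coeff j ∈ O := by
  obtain ⟨Z', hZ'⟩ := exists_lift p O m Z hZ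
  obtain ⟨W', hW'⟩ := exists_lift p O m W hW
  have h : truncate m (WittVector.map O.subtype (Z' * W')) = truncate m (Z * W) := by
    rw [map_mul, map_mul, map_mul, hZ', hW']
  intro j hj
  rw [← coeff_eq_of_trunc_eq p m h j hj, WittVector.map_coeff]
  exact ((Z' * W').coeff j).2

/-- If the coordinates are in `O` and congruent modulo an ideal `P` of `O`, then the coordinates
of the difference are in `P`. -/
theorem coeff_sub_mem_ideal (P : Ideal O) {Z W : WittVector p L} (hZ : ∀ j < m, Z.coeff j ∈ O)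
    (hW : ∀ j < m, W.coeff j ∈ O)
    (hZW : ∀ j < m, ∃ z ∈ P, Z.coeff j - W.coeff j = (z : L)) :
    ∀ j < m, ∃ z ∈ P, (Z - W).coeff j = (z : L) := by
  obtain ⟨Z', hZ'⟩ := exists_lift p O m Z hZ
  obtain ⟨W', hW'⟩ := exists_lift p O m W hW
  have h : truncate m (WittVector.map O.subtype (Z' - W')) = truncate m (Z - W) := by
    rw [map_sub, map_sub, map_sub, hZ', hW']
  have h2 : truncate m (WittVector.map (Ideal.Quotient.mk P) Z') =
      truncate m (WittVector.map (Ideal.Quotient.mk P) W') := by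
    apply trunc_eq_of_coeff_eq
    intro j hj
    rw [WittVector.map_coeff, WittVector.map_coeff, Ideal.Quotient.eq]
    obtain ⟨z, hz, hzz⟩ := hZW j hj
    have h3 := coeff_eq_of_trunc_eq p m hZ' j hj
    have h4 := coeff_eq_of_trunc_eq p m hW' j hj
    rw [WittVector.map_coeff] at h3 h4
    have : Z'.coeff j - W'.coeff j = z := by
      apply Subtype.ext
      rw [← hzz, ← h3, ← h4]
      rfl
    rw [this]
    exact hz
  have h5 : truncate m (WittVector.map (Ideal.Quotient.mk P) (Z' - W')) = truncate m 0 := by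
    rw [map_sub, map_sub, h2, sub_self, map_zero]
  intro j hj
  refine ⟨(Z' - W').coeff j, ?_, ?_⟩
  · have := coeff_eq_of_trunc_eq p m h5 j hj
    rwa [WittVector.map_coeff, WittVector.zero_coeff, Ideal.Quotient.eq_zero_iff_mem] at this
  · rw [← coeff_eq_of_trunc_eq p m h j hj, WittVector.map_coeff]
    rfl

end Subring

section Root

variable {A B L : Type*} [CommRing A] [CommRing B] [Algebra A B] [CommRing L] (ι : B →+* L)
  (O : Subring L) (hO : ∀ (z : L) (q : ℕ), 0 < q → z ^ q ∈ O → z ∈ O)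
  (hA : ∀ z : B, z ∈ (algebraMap A B).range ↔ ι z ∈ O)

theorem key_pow {m j : ℕ} (hj : j < m) {c : B} {γ : L} (hγ : γ ^ p ^ (m - 1) = ι c) (x : B) :
    ι (x ^ p ^ (m - 1 - j) * c) = (γ ^ p ^ j * ι x) ^ p ^ (m - 1 - j) := by
  rw [map_mul, map_pow, mul_pow, ← hγ, ← pow_mul, ← pow_add,
    Nat.add_sub_cancel' (by omega : j ≤ m - 1), mul_comm]

include hO hA in
theorem mem_fil_iff {m : ℕ} {c : B} {γ : L} (hγ : γ ^ p ^ (m - 1) = ι c) (X : WittVector p B) :
    truncate m X ∈ WittFil.fil p m (A := A) c ↔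
      ∀ j < m, (teichmuller p γ * WittVector.map ι X).coeff j ∈ O := by
  have h : ∀ j < m, X.coeff j ^ p ^ (m - 1 - j) * c ∈ (algebraMap A B).range ↔
      (teichmuller p γ * WittVector.map ι X).coeff j ∈ O := by
    intro j hj
    rw [hA, key_pow p ι hj hγ, teichmuller_mul_coeff, WittVector.map_coeff]
    exact ⟨fun h => hO _ _ (pow_pos hp.out.pos _) h, fun h => O.pow_mem h _⟩
  constructor
  · intro hX j hj
    rw [← h j hj]
    have := hX ⟨j, hj⟩
    rwa [coeff_truncate] at this
  · intro hX j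
    show TruncatedWittVector.coeff j _ ^ _ * _ ∈ _
    rw [coeff_truncate, h j j.2]
    exact hX j j.2

include hO hA in
theorem sub_mem_fil {m : ℕ} {c : B} {γ : L} (hγ : γ ^ p ^ (m - 1) = ι c)
    {a b : TruncatedWittVector p m B} (ha : a ∈ WittFil.fil p m (A := A) c)
    (hb : b ∈ WittFil.fil p m (A := A) c) : a - b ∈ WittFil.fil p m (A := A) c := by
  obtain ⟨X, rfl⟩ := WittVector.truncate_surjective p m B a
  obtain ⟨Y, rfl⟩ := WittVector.truncate_surjective p m B b
  rw [← map_sub]
  rw [mem_fil_iff p ι O hO hA hγ] at ha hb ⊢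
  rw [map_sub, mul_sub]
  exact coeff_sub_mem p O m ha hb

include hO hA in
theorem mul_mem_fil {m : ℕ} {c c' : B} {γ γ' : L} (hγ : γ ^ p ^ (m - 1) = ι c)
    (hγ' : γ' ^ p ^ (m - 1) = ι c')
    {a b : TruncatedWittVector p m B} (ha : a ∈ WittFil.fil p m (A := A) c)
    (hb : b ∈ WittFil.fil p m (A := A) c') : a * b ∈ WittFil.fil p m (A := A) (c * c') := by
  obtain ⟨X, rfl⟩ := WittVector.truncate_surjective p m B a
  obtain ⟨Y, rfl⟩ := WittVector.truncate_surjective p m B b
  rw [← map_mul]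
  rw [mem_fil_iff p ι O hO hA hγ] at ha
  rw [mem_fil_iff p ι O hO hA hγ'] at hb
  rw [mem_fil_iff p ι O hO hA (γ := γ * γ') (by rw [mul_pow, hγ, hγ', map_mul])]
  have : teichmuller p (γ * γ') * WittVector.map ι (X * Y) =
      (teichmuller p γ * WittVector.map ι X) * (teichmuller p γ' * WittVector.map ι Y) := by
    rw [map_mul, map_mul]; ring
  rw [this]
  exact coeff_mul_mem p O m ha hb

end Root

end K985.WittFil
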